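import Cfsg.Agent.H46.Generation
import Cfsg.Agent.H45.NormFam
import Cfsg.Agent.H49.Hall

/-! Goldschmidt's generation lemma: fixed points of `B ≤ A` on `Y = [Y, A]`. -/

set_option autoImplicit false
set_option linter.unusedSectionVars false

namespace Cfsg.Agent.H46

open Subgroup Cfsg.Agent.H49
open scoped commutatorElement

universe u

variable {G : Type u} [Group G] [Finite G] {p : ℕ} [Fact p.Prime]

/-- `B / B₀` is cyclic. -/
def CycQ (B B₀ : Subgroup G) : Prop := B₀ ≤ B ∧ ∃ b ∈ B, ∀ x ∈ B, ∃ n : ℤ, x * b ^ n ∈ B₀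

theorem cycQ_self (B : Subgroup G) : CycQ B B :=
  ⟨le_rfl, 1, one_mem _, fun x hx => ⟨0, by simpa using hx⟩⟩

theorem le_of_forall_cycQ {B X Y : Subgroup G} (hB : IsPGroup p B) (hBc : IsMulCommutative B)
    (hX : ¬ p ∣ Nat.card X) (hBX : B ≤ 𝒩(X)) (h : ∀ B₀, CycQ B B₀ → X ⊓ 𝒞(B₀) ≤ Y) : X ≤ Y := by
  refine le_of_forall_cyclic_quotient hB hBc Y X hX hBX fun B₀ hB₀ ⟨a, ha, e⟩ =>
    h B₀ ⟨hB₀, a, ha, fun x hx => ?_⟩
  rw [← e, mem_sup_of_norm_left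
    (norm_of_cent (le_cent_of_abelian hBc (zpowers_le.2 ha) hB₀))] at hx
  obtain ⟨b, hb, _, ⟨n, rfl⟩, rfl⟩ := hx
  exact ⟨-n, by simpa using hb⟩

theorem coprime_of_pgroup {A X : Subgroup G} (hA : IsPGroup p A) (hX : ¬ p ∣ Nat.card X) :
    (Nat.card A).Coprime (Nat.card X) := by
  obtain ⟨n, hn⟩ := hA.exists_card_eq
  rw [hn]
  exact ((Nat.Prime.coprime_iff_not_dvd Fact.out).2 hX).pow_left n

/-- `Y = [Y, A]` is generated by the groups `[C_Y(B₀), A]`. -/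
theorem le_of_forall_comm_cycQ {A B Y S : Subgroup G} (hA : IsPGroup p A)
    (hAc : IsMulCommutative A) (hB : B ≤ A) (hY : ¬ p ∣ Nat.card Y) (hAY : A ≤ 𝒩(Y))
    (hYA : ⁅Y, A⁆ = Y) (h : ∀ B₀, CycQ B B₀ → ⁅Y ⊓ 𝒞(B₀), A⁆ ≤ S) : Y ≤ S := by
  set Y₀ : Subgroup G := ⨆ B₀ : {B₀ // CycQ B B₀}, ⁅Y ⊓ 𝒞((B₀ : Subgroup G)), A⁆ with hY₀
  have hn : ∀ B₀, CycQ B B₀ → A ≤ 𝒩(Y ⊓ 𝒞(B₀)) := fun B₀ h0 =>
    norm_inf hAY (norm_of_le (le_cent_of_abelian hAc le_rfl (h0.1.trans hB)))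
  have hA0 : A ≤ 𝒩(Y₀) := H45.norm_iSup fun B₀ => norm_commutator (hn _ B₀.2) (norm_of_le le_rfl)
  have hC0 : Y ⊓ 𝒞(A) ≤ 𝒩(Y₀) := H45.norm_iSup fun B₀ => norm_commutator
    (norm_of_le (inf_le_inf_left _ (cent_anti (B₀.2.1.trans hB)))) (norm_of_cent inf_le_right)
  have h1 : Y ≤ Y₀ ⊔ (Y ⊓ 𝒞(A)) := by
    refine le_of_forall_cycQ (hA.to_le hB) (abelian_of_le hAc hB) hY (hB.trans hAY) fun B₀ h0 => ?_
    rw [← commutator_sup_centralizer hA (not_dvd_card_of_le hY inf_le_left) (hn _ h0)]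
    exact sup_le_sup (le_iSup (fun B₀ : {B₀ // CycQ B B₀} => ⁅Y ⊓ 𝒞((B₀ : Subgroup G)), A⁆)
      ⟨B₀, h0⟩) (inf_le_inf_right _ inf_le_left)
  refine hYA.ge.trans (le_trans ?_ (iSup_le fun B₀ : {B₀ // CycQ B B₀} => h _ B₀.2))
  refine commutator_le.2 fun y hy a ha => ?_
  obtain ⟨n, hn', c, hc, rfl⟩ := (mem_sup_of_norm_left hC0).1 (h1 hy)
  have e : ⁅n * c, a⁆ = n * (a * n⁻¹ * a⁻¹) := by
    rw [commutatorElement_def, mul_assoc n c a, ← le_cent_iff.1 inf_le_right c hc a ha]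
    group
  rw [e]
  exact mul_mem hn' (conj_mem_of_norm hA0 ha (inv_mem hn'))

/-- the abelian case -/
theorem comm_inf_cent_le_of_abelian {A B Y U X : Subgroup G} (hA : IsPGroup p A)
    (hAc : IsMulCommutative A) (hB : B ≤ A) (hY : ¬ p ∣ Nat.card Y) (hAY : A ≤ 𝒩(Y))
    (hYA : ⁅Y, A⁆ = Y) (hX : ∀ B₀, CycQ B B₀ → 𝒞(B) ⊓ ⁅Y ⊓ 𝒞(B₀), A⁆ ≤ X) (hU : U ≤ Y)
    (hYU : Y ≤ 𝒩(U)) (hAU : A ≤ 𝒩(U)) (hUc : IsMulCommutative U) : ⁅U, Y⁆ ⊓ 𝒞(A) ≤ X := by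
  have hU' := not_dvd_card_of_le hY hU
  set M := ⁅U, A⁆ ⊔ (X ⊓ (U ⊓ 𝒞(A))) with hM
  have hMU : M ≤ U := sup_le (commutator_le_left_of_norm hAU) (inf_le_right.trans inf_le_left)
  have hUM : U ≤ 𝒩(M) := norm_of_cent (le_cent_of_abelian hUc le_rfl hMU)
  have h1 : Y ≤ 𝒩(M) ⊓ quoPre M 𝒞(quo U M) := by
    refine le_of_forall_comm_cycQ hA hAc hB hY hAY hYA fun B₀ h0 => ?_
    have hB₀ := h0.1.trans hB
    have hAB : A ≤ 𝒞(B₀) := le_cent_of_abelian hAc le_rfl hB₀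
    set T := ⁅Y ⊓ 𝒞(B₀), A⁆ with hT
    have hn : A ≤ 𝒩(Y ⊓ 𝒞(B₀)) := norm_inf hAY (norm_of_le hAB)
    have hTle : T ≤ Y ⊓ 𝒞(B₀) := commutator_le_left_of_norm hn
    have hAT : A ≤ 𝒩(U ⊓ T) := norm_inf hAU (norm_commutator hn (norm_of_le le_rfl))
    have hUT : U ⊓ T ≤ M := by
      rw [← commutator_sup_centralizer hA (not_dvd_card_of_le hU' inf_le_left) hAT]
      refine sup_le_sup (commutator_mono inf_le_left le_rfl) (le_inf ?_ ?_)
      · exact fun x hx => hX B₀ h0 ⟨cent_anti hB hx.2, hx.1.2⟩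
      · exact inf_le_inf_right _ inf_le_left
    have hc : ⁅U, T⁆ ≤ M := by
      refine commutator_le.2 fun u hu y hy => ?_
      obtain ⟨w, hw, c, hc, rfl⟩ := exists_commutator_mul_centralizer (hA.to_le hB₀) hU'
        (hB₀.trans hAU) hu
      have hw1 : ⁅U, B₀⁆ ≤ M := (commutator_mono le_rfl hB₀).trans le_sup_left
      have hyw : y * w⁻¹ * y⁻¹ ∈ ⁅U, B₀⁆ := conj_mem_of_norm
        (norm_commutator (inf_le_left.trans hYU) (norm_of_cent inf_le_right)) (hTle hy) (inv_mem hw)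
      have hcy : ⁅c, y⁆ ∈ U ⊓ T := mem_inf.2
        ⟨commutator_le_left_of_norm hYU (commutator_mem_commutator hc.1 (hTle hy).1),
        commutator_le_right_of_norm (show zpowers c ≤ 𝒩(T) from zpowers_le.2
          (normalizer_commutator_ge_left _ _ (show c ∈ Y ⊓ 𝒞(B₀) from ⟨hU hc.1, hc.2⟩)))
          (commutator_mem_commutator (mem_zpowers c) hy)⟩
      have e : ⁅w * c, y⁆ = w * ⁅c, y⁆ * (y * w⁻¹ * y⁻¹) := by
        simp only [commutatorElement_def]; group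
      rw [e]
      exact mul_mem (mul_mem (hw1 hw) (hUT hcy)) (hw1 hyw)
    have hTM : T ≤ 𝒩(M) := H45.le_norm_of_comm_le (by
      rw [commutator_comm]; exact (commutator_mono hMU le_rfl).trans hc)
    exact le_inf hTM (H45.le_quoPre_cent hUM hTM hc)
  have h2 : ⁅U, Y⁆ ≤ M := H45.comm_le_of_le hUM (h1.trans inf_le_left) (h1.trans inf_le_right)
  intro z hz
  obtain ⟨m, hm, x, hx, rfl⟩ := (mem_sup_of_norm_left (show X ⊓ (U ⊓ 𝒞(A)) ≤ 𝒩(⁅U, A⁆) from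
    norm_of_cent (le_cent_of_abelian hUc (inf_le_right.trans inf_le_left)
      (commutator_le_left_of_norm hAU)))).1 (h2 hz.1)
  have h3 := H45.comm_inf_cent_le_der hAU (coprime_of_pgroup hA hU')
    (mem_inf.2 ⟨hm, (mul_mem_cancel_right (mem_inf.1 (mem_inf.1 hx).2).2).1 (mem_inf.1 hz).2⟩)
  rw [H49.commutator_eq_bot_iff.2 (abelian_iff.1 hUc), mem_bot] at h3
  rw [h3, one_mul]
  exact hx.1

theorem cent_le_of_forall_cycQ_aux (n : ℕ) : ∀ (G : Type u) [Group G] [Finite G]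
    (A B Y X : Subgroup G), Nat.card Y = n → IsPGroup p A → IsMulCommutative A → B ≤ A →
    ¬ p ∣ Nat.card Y → Group.IsSolvable Y → A ≤ 𝒩(Y) → ⁅Y, A⁆ = Y →
    (∀ B₀, CycQ B B₀ → 𝒞(B) ⊓ ⁅Y ⊓ 𝒞(B₀), A⁆ ≤ X) → Y ⊓ 𝒞(B) ≤ X := by
  induction n using Nat.strong_induction_on with
  | _ n ih =>
  intro G _ _ A B Y X hn hA hAc hB hY hs hAY hYA hX
  have hnc : ∀ B₀, B₀ ≤ A → A ≤ 𝒞(B₀) := fun B₀ h0 => le_cent_of_abelian hAc le_rfl h0
  -- reduction modulo a normal subgroup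
  have red : ∀ N : Subgroup G, N ≠ ⊥ → N ≤ Y → Y ≤ 𝒩(N) → A ≤ 𝒩(N) → N ⊓ 𝒞(A) ≤ X →
      Y ⊓ 𝒞(B) ≤ X := by
    intro N hN hNY hYN hAN hNX
    have hN' := not_dvd_card_of_le hY hNY
    have hq : ∀ K B₀ : Subgroup G, B₀ ≤ A → A ≤ 𝒩(K) →
        quo (K ⊓ 𝒞(B₀)) N = quo K N ⊓ 𝒞(quo B₀ N) := fun K B₀ h0 hK =>
      coprime_quo_cent (h0.trans hK) (h0.trans hAN) (coprime_of_pgroup (hA.to_le h0) hN')
        (Or.inr (solvable_of_le hs hNY))
    have h1 := ih _ (hn ▸ card_quo_lt hYN (by rwa [inf_eq_left.2 hNY])) (Quo N) (quo A N)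
      (quo B N) (quo Y N) (quo (X ⊓ (Y ⊓ 𝒞(B))) N) rfl ((hA.comap_subtype).map _)
      (abelian_quo hAc N) (quo_mono N hB) (fun h => hY (h.trans (card_quo_dvd Y N)))
      (solvable_quo hs N) (quo_norm N hAY) (by rw [← quo_commutator hYN hAN, hYA]) (by
        rintro B' ⟨hB', b', hb', hcyc⟩
        obtain ⟨b, hb, rfl⟩ := mem_quo.1 hb'
        have e : quo (B ⊓ quoPre N B') N = B' := by
          rw [quo_inf_of_le_right (le_quoPre B'), quo_quoPre, inf_eq_right.2 hB']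
        have h0 : CycQ B (B ⊓ quoPre N B') := ⟨inf_le_left, b, hb, fun x hx => by
          obtain ⟨k, hk⟩ := hcyc _ (coset_mem_quo (x := ⟨x, hAN (hB hx)⟩) hx)
          rw [← map_zpow, ← map_mul, ← coe_mem_quoPre] at hk
          exact ⟨k, mul_mem hx (zpow_mem hb k), hk⟩⟩
        have hn0 : A ≤ 𝒩(Y ⊓ 𝒞(B ⊓ quoPre N B')) :=
          norm_inf hAY (norm_of_le (hnc _ (inf_le_left.trans hB)))
        rw [← e, ← hq Y _ (inf_le_left.trans hB) hAY,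
          ← quo_commutator (inf_le_left.trans hYN) hAN, inf_comm,
          ← hq _ B hB (norm_commutator hn0 (norm_of_le le_rfl))]
        exact quo_mono N fun x hx => ⟨hX _ h0 ⟨hx.2, hx.1⟩,
          (commutator_le_left_of_norm hn0 hx.1).1, hx.2⟩)
    rw [← hq Y B hB hAY, quo_le_quo_iff' (inf_le_left.trans hYN)
      ((inf_le_right.trans inf_le_left).trans hYN)] at h1
    intro y hy
    obtain ⟨x, hx, m, hm, rfl⟩ := (mem_sup_of_norm_right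
      ((inf_le_right.trans inf_le_left).trans hYN)).1 (h1 hy)
    refine mul_mem hx.1 ?_
    have hm' : m ∈ N ⊓ 𝒞(B) := mem_inf.2
      ⟨hm, (mul_mem_cancel_left (mem_inf.1 (mem_inf.1 hx).2).2).1 (mem_inf.1 hy).2⟩
    have hn1 : A ≤ 𝒩(N ⊓ 𝒞(B)) := norm_inf hAN (norm_of_le (hnc B hB))
    rw [← commutator_sup_centralizer hA (not_dvd_card_of_le hN' inf_le_left) hn1] at hm'
    refine (sup_le (fun x hx => hX B (cycQ_self B) ⟨(commutator_le_left_of_norm hn1 hx).2,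
      commutator_mono (inf_le_inf_right _ hNY) le_rfl hx⟩)
      ((inf_le_inf_right _ inf_le_left).trans hNX)) hm'
  by_contra hcon
  -- normal subgroups centralised by `A` are central
  have hcent : ∀ U : Subgroup G, Y ≤ 𝒩(U) → A ≤ 𝒞(U) → Y ≤ 𝒞(U) := fun U hYU hAU => by
    rw [← hYA, commutator_comm]
    exact (commutator_mono hAU le_rfl).trans (commutator_le_left_of_norm (norm_cent hYU))
  have hab : ∀ U : Subgroup G, U ≤ Y → Y ≤ 𝒩(U) → A ≤ 𝒩(U) → IsMulCommutative U → A ≤ 𝒞(U) := by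
    intro U hU hYU hAU hUc
    have h1 : ⁅U, Y⁆ = ⊥ := by
      by_contra h1
      exact hcon (red _ h1 ((commutator_le_left_of_norm hYU).trans hU)
        (norm_commutator hYU (norm_of_le le_rfl)) (norm_commutator hAU hAY)
        (comm_inf_cent_le_of_abelian hA hAc hB hY hAY hYA hX hU hYU hAU hUc))
    have h2 : U ≤ 𝒞(Y) := H49.commutator_eq_bot_iff.1 h1
    by_contra h3
    have h4 : ⁅U, A⁆ ≤ U := commutator_le_left_of_norm hAU
    refine hcon (red ⁅U, A⁆ (fun h => h3 (cent_symm (H49.commutator_eq_bot_iff.1 h))) (h4.trans hU)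
      (norm_of_cent (cent_symm (h4.trans h2))) (norm_commutator hAU (norm_of_le le_rfl)) ?_)
    refine (H45.comm_inf_cent_le_der hAU (coprime_of_pgroup hA (not_dvd_card_of_le hY hU))).trans ?_
    rw [H49.commutator_eq_bot_iff.2 (abelian_iff.1 hUc)]
    exact bot_le
  have hY1 : ¬ A ≤ 𝒞(Y) := fun h => hcon (by
    rw [← hYA, H49.commutator_eq_bot_iff.2 (cent_symm h), bot_inf_eq]; exact bot_le)
  obtain ⟨U, ⟨hU, hYU, hAU, hU1⟩, hmin⟩ := Set.exists_min_image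
    {U : Subgroup G | U ≤ Y ∧ Y ≤ 𝒩(U) ∧ A ≤ 𝒩(U) ∧ ¬ A ≤ 𝒞(U)} (fun U => Nat.card U)
    (Set.toFinite _) ⟨Y, le_rfl, norm_of_le le_rfl, hAY, hY1⟩
  have hU' := not_dvd_card_of_le hY hU
  have hUb : U ≠ ⊥ := fun h => hU1 (by rw [h, cent_bot]; exact le_top)
  have hder : A ≤ 𝒞(⁅U, U⁆) := by
    by_contra h
    have h1 := hmin _ ⟨der_le.trans hU, norm_commutator hYU hYU, norm_commutator hAU hAU, h⟩
    exact absurd (card_lt_of_lt (der_lt_of_solvable (solvable_of_le hs hU) hUb)) (not_lt.2 h1)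
  have hZ : X ⊓ (Y ⊓ 𝒞(Y) ⊓ 𝒞(A)) = ⊥ := by
    by_contra h
    exact hcon (red _ h (fun x hx => hx.2.1.1)
      (norm_of_cent (cent_symm fun x hx => hx.2.1.2)) (norm_of_cent (cent_symm fun x hx => hx.2.2))
      (inf_le_left.trans inf_le_left))
  refine hU1 (cent_symm (le_of_forall_cycQ (hA.to_le hB) (abelian_of_le hAc hB) hU'
    (hB.trans hAU) fun B₀ h0 => ?_))
  have hB₀ := h0.1.trans hB
  have hn0 : A ≤ 𝒩(U ⊓ 𝒞(B₀)) := norm_inf hAU (norm_of_le (hnc _ hB₀))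
  set N₀ := ⁅U ⊓ 𝒞(B₀), A⁆ with hN₀
  have hle : N₀ ≤ U ⊓ 𝒞(B₀) := commutator_le_left_of_norm hn0
  have h1 : ⁅N₀, U ⊓ 𝒞(B₀)⁆ = ⊥ := by
    rw [eq_bot_iff, ← hZ]
    have h2 : ⁅N₀, U ⊓ 𝒞(B₀)⁆ ≤ ⁅U, U⁆ := commutator_mono (hle.trans inf_le_left) inf_le_left
    have h3 := h2.trans (cent_symm hder)
    refine le_inf (le_trans (le_inf (h3.trans (cent_anti hB)) ?_) (hX B₀ h0))
      (le_inf (le_inf (h2.trans (der_le.trans hU))
        (h2.trans (cent_symm (hcent _ (norm_commutator hYU hYU) hder)))) h3)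
    exact (commutator_le_left_of_norm (normalizer_commutator_ge_left _ _)).trans
      (commutator_mono (inf_le_inf_right _ hU) le_rfl)
  have h2 : ⁅⁅U, B₀⁆, N₀⁆ = ⊥ := commutator_commutator_eq_bot_of_rotate
    (by rw [H49.commutator_eq_bot_iff.2 (cent_symm (hle.trans inf_le_right)), commutator_bot_left])
    (H49.commutator_eq_bot_iff.2 ((commutator_mono (hle.trans inf_le_left) le_rfl).trans
      (cent_symm (hB₀.trans hder))))
  have h3 : N₀ ≤ U ⊓ 𝒞(U) := by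
    refine le_inf (hle.trans inf_le_left) (cent_symm ?_)
    rw [← commutator_sup_centralizer (hA.to_le hB₀) hU' (hB₀.trans hAU)]
    exact sup_le (H49.commutator_eq_bot_iff.1 h2) (cent_symm (H49.commutator_eq_bot_iff.1 h1))
  have h4 := hab (U ⊓ 𝒞(U)) (inf_le_left.trans hU) (norm_inf hYU (norm_cent hYU))
    (norm_inf hAU (norm_cent hAU)) (abelian_iff.2 (inf_le_right.trans (cent_anti inf_le_left)))
  rw [← H49.commutator_eq_bot_iff, ← commutator_commutator_eq hA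
    (not_dvd_card_of_le hU' inf_le_left) hn0]
  exact H49.commutator_eq_bot_iff.2 (h3.trans (cent_symm h4))

/-- Goldschmidt's lemma. -/
theorem cent_le_of_forall_cycQ {A B Y X : Subgroup G} (hA : IsPGroup p A)
    (hAc : IsMulCommutative A) (hB : B ≤ A) (hY : ¬ p ∣ Nat.card Y) (hs : Group.IsSolvable Y)
    (hAY : A ≤ 𝒩(Y)) (hYA : ⁅Y, A⁆ = Y)
    (hX : ∀ B₀, CycQ B B₀ → 𝒞(B) ⊓ ⁅Y ⊓ 𝒞(B₀), A⁆ ≤ X) : Y ⊓ 𝒞(B) ≤ X :=
  cent_le_of_forall_cycQ_aux _ G A B Y X rfl hA hAc hB hY hs hAY hYA hX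

end Cfsg.Agent.H46
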