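import Cfsg.Agent.H46.Unbal
import Cfsg.Agent.H46.Pump
import Cfsg.Agent.H46.LBalance
import Cfsg.Agent.H46.CoGen

/-! `p`-components modulo the core, in the `quo` vocabulary of `H49`. -/

set_option autoImplicit false
set_option linter.unusedSectionVars false

namespace Cfsg.Agent.H46

open Subgroup Cfsg.Agent.H44
open H49 hiding cj commutator_eq_bot_iff
open scoped commutatorElement

universe u

variable {G : Type u} [Group G] [Finite G] {p : ℕ} [Fact p.Prime]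

theorem Oppof_subgroupOf {H D : Subgroup G} (h : H ≤ D) :
    (Oppof p H).subgroupOf D = Oppof p (H.subgroupOf D) := by
  have e : (Oppof p (H.subgroupOf D)).map D.subtype = Oppof p H := pPrimeCoreOf_subgroupOf_map h
  rw [← e]
  exact comap_map_eq_self_of_injective D.subtype_injective _

theorem coprime_ker_coset {H N : Subgroup G} (hN : (Nat.card N).Coprime p) :
    (Nat.card ↥((coset N).ker ⊓ H.subgroupOf 𝒩(N))).Coprime p := by
  refine coprime_of_le (inf_le_left.trans (ker_coset N).le) ?_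
  rwa [Nat.card_congr (subgroupOfEquivOfLe le_normalizer).toEquiv]

theorem quo_Oppof {H N : Subgroup G} (hH : H ≤ 𝒩(N)) (hN : (Nat.card N).Coprime p) :
    quo (Oppof p H) N = Oppof p (quo H N) := by
  rw [quo_def, Oppof_subgroupOf hH, map_Oppof _ _ (coprime_ker_coset hN), quo_def]

theorem Oppof_quo_self (H : Subgroup G) : Oppof p (quo H (Oppof p H)) = ⊥ := by
  rw [← quo_Oppof (le_normalizer_pPrimeCoreOf H) (pPrimeCoreOf_coprime H), quo_self]

theorem pcomp_subgroupOf {H K D : Subgroup G} (hH : H ≤ D) (h : PComp p H K) :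
    PComp p (H.subgroupOf D) (K.subgroupOf D) := by
  rw [← pcomp_map_inj_iff D.subtype D.subtype_injective, map_subtype_subgroupOf hH,
    map_subtype_subgroupOf (h.le.trans hH)]
  exact h

theorem pcomp_quo {H K N : Subgroup G} (hH : H ≤ 𝒩(N)) (hN : (Nat.card N).Coprime p)
    (h : PComp p H K) : PComp p (quo H N) (quo K N) :=
  (pcomp_subgroupOf hH h).map (coset N) fun e =>
    h.pqs.not_le_of_coprime hN ((quo_eq_bot_iff (h.le.trans hH)).1 e)

theorem exists_pcomp_quo {H N : Subgroup G} (hH : H ≤ 𝒩(N)) (hN : (Nat.card N).Coprime p)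
    {L : Subgroup (Quo N)} (h : PComp p (quo H N) L) : ∃ K, PComp p H K ∧ quo K N = L := by
  obtain ⟨h1, h2⟩ := PComp.lift (coset N) (coprime_ker_coset hN) h
  have h3 := h1.map_inj _ 𝒩(N).subtype_injective
  rw [map_subtype_subgroupOf hH] at h3
  refine ⟨_, h3, ?_⟩
  exact (congrArg _ (comap_map_eq_self_of_injective 𝒩(N).subtype_injective _)).trans h2

theorem comp_quo {H K : Subgroup G} (h : PComp p H K) :
    Comp (quo H (Oppof p H)) (quo K (Oppof p H)) :=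
  (pcomp_iff_comp_of_Oppof_eq_bot (Oppof_quo_self H)).1
    (pcomp_quo (le_normalizer_pPrimeCoreOf H) (pPrimeCoreOf_coprime H) h)

theorem exists_comp_quo {H : Subgroup G} {L : Subgroup (Quo (Oppof p H))}
    (h : Comp (quo H (Oppof p H)) L) : ∃ K, PComp p H K ∧ quo K (Oppof p H) = L :=
  exists_pcomp_quo (le_normalizer_pPrimeCoreOf H) (pPrimeCoreOf_coprime H)
    ((pcomp_iff_comp_of_Oppof_eq_bot (Oppof_quo_self H)).2 h)

theorem isPGroup_quo {P : Subgroup G} (hP : IsPGroup p P) (N : Subgroup G) :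
    IsPGroup p (quo P N) := hP.comap_subtype.map _

theorem quo_inf_cent {H P N : Subgroup G} (hP : IsPGroup p P) (hn : P ≤ 𝒩(H)) (hPN : P ≤ 𝒩(N))
    (hN : (Nat.card N).Coprime p) : quo (H ⊓ 𝒞(P)) N = quo H N ⊓ 𝒞(quo P N) :=
  coprime_quo_cent hn hPN (coprime_of_pgroup hP
    ((Nat.Prime.coprime_iff_not_dvd Fact.out).1 hN.symm)) (Or.inl (isSolvable_of_isPGroup hP))

theorem quo_Oppof_inf_cent {H P : Subgroup G} (hP : IsPGroup p P) (hn : P ≤ 𝒩(H)) :
    quo (Oppof p (H ⊓ 𝒞(P))) (Oppof p H) =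
      Oppof p (quo H (Oppof p H) ⊓ 𝒞(quo P (Oppof p H))) := by
  rw [quo_Oppof (inf_le_left.trans (le_normalizer_pPrimeCoreOf H)) (pPrimeCoreOf_coprime H),
    quo_inf_cent hP hn (hn.trans (normalizer_le_normalizer_pPrimeCoreOf H))
      (pPrimeCoreOf_coprime H)]

/-- `O_{p'}(C_H(P))` normalises every `p`-component of `H`. -/
theorem Oppof_inf_cent_le_norm {H P K : Subgroup G} (hP : IsPGroup p P) (hn : P ≤ 𝒩(H))
    (hK : PComp p H K) : Oppof p (H ⊓ 𝒞(P)) ≤ 𝒩(K) := by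
  have hH := le_normalizer_pPrimeCoreOf (p := p) H
  refine (norm_sup_of_quo_norm (((Oppof_le _).trans inf_le_left).trans hH) (hK.le.trans hH)
    ?_).trans hK.normalizer_sup_Oppof_le
  rw [quo_Oppof_inf_cent hP hn]
  exact Oppof_inf_centralizer_le_normalizer (Oppof_quo_self H) (isPGroup_quo hP _)
    (quo_norm _ hn) (comp_quo hK)

/-- A subgroup of `O_{p'}(C_H(x))` not contained in `O_{p'}(H)` acts on a `p`-component. -/
theorem exists_pcomp_unbalanced {H Y : Subgroup G} {x : G} (hx : orderOf x = p) (hn : x ∈ 𝒩(H))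
    (hY : Y ≤ Oppof p (H ⊓ 𝒞[x])) (hY1 : ¬ Y ≤ Oppof p H) :
    ∃ L, PComp p H L ∧ ¬ ⁅L, zpowers x⁆ ≤ Oppof p H ∧ ¬ ⁅L, Y⁆ ≤ Oppof p H := by
  have hH := le_normalizer_pPrimeCoreOf (p := p) H
  have hxO : x ∈ 𝒩(Oppof p H) := normalizer_le_normalizer_pPrimeCoreOf H hn
  have hYH : Y ≤ H := hY.trans ((Oppof_le _).trans inf_le_left)
  have hP : IsPGroup p (zpowers x) := IsPGroup.of_card (n := 1) (by rw [Nat.card_zpowers, hx, pow_one])
  have hz := quo_zpowers (N := Oppof p H) ⟨x, hxO⟩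
  have ho : orderOf (coset (Oppof p H) ⟨x, hxO⟩) = p := by
    refine orderOf_eq_prime ?_ fun e => ?_
    · rw [← map_pow, show (⟨x, hxO⟩ : 𝒩(Oppof p H)) ^ p = 1 from
        Subtype.ext (show x ^ p = 1 from hx ▸ pow_orderOf_eq_one x), map_one]
    · have h1 := orderOf_dvd_natCard (⟨x, coset_eq_one_iff.1 e⟩ : Oppof p H)
      rw [Subgroup.orderOf_mk, hx] at h1
      exact (Nat.Prime.coprime_iff_not_dvd Fact.out).1 (pPrimeCoreOf_coprime H).symm h1
  obtain ⟨L, hL, h1, -, h2⟩ := exists_comp_unbalanced (Y := quo Y (Oppof p H)) (Oppof_quo_self H) ho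
    (zpowers_le.1 (hz ▸ quo_norm _ (zpowers_le.2 hn))) (by
      rw [← cent_zpowers, ← hz, ← quo_Oppof_inf_cent hP (zpowers_le.2 hn), cent_zpowers]
      exact quo_mono _ hY) (fun e => hY1 ((quo_eq_bot_iff (hYH.trans hH)).1 e))
  obtain ⟨K, hK, rfl⟩ := exists_comp_quo hL
  refine ⟨K, hK, fun e => hL.qs.ne_bot ?_, fun e => h2 ?_⟩
  · rw [← h1, ← hz]
    exact H49.commutator_eq_bot_iff.2
      ((quo_cent_iff (hK.le.trans hH) (zpowers_le.2 hxO)).2 e)
  · exact H49.commutator_eq_bot_iff.2 ((quo_cent_iff (hK.le.trans hH) (hYH.trans hH)).2 e)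

/-- If `L = L₀ O_{p'}(L)` and `[L₀, U]` is a `p'`-group then `U` centralises `L` modulo the core. -/
theorem comm_le_Oppof_of_coprime {H L L₀ U : Subgroup G} (hL : PComp p H L) (h0 : L₀ ≤ L)
    (h1 : L ≤ L₀ ⊔ Oppof p H) (hU : U ≤ H) (hc : (Nat.card ↥⁅L₀, U⁆).Coprime p) :
    ⁅L, U⁆ ≤ Oppof p H := by
  have hH := le_normalizer_pPrimeCoreOf (p := p) H
  have hL0 := (h0.trans hL.le).trans hH
  have e : quo L (Oppof p H) = quo L₀ (Oppof p H) :=
    le_antisymm ((quo_le_quo_iff' (hL.le.trans hH) hL0).2 h1) (quo_mono _ h0)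
  have hK := comp_quo hL
  rw [← quo_cent_iff (hL.le.trans hH) (hU.trans hH), ← H49.commutator_eq_bot_iff]
  have h2 : (Nat.card ↥⁅quo L (Oppof p H), quo U (Oppof p H)⁆).Coprime p := by
    rw [e, ← quo_commutator hL0 (hU.trans hH)]
    exact hc.coprime_dvd_left (card_quo_dvd _ _)
  rcases hK.le_or_commutator_eq_bot_of_le_normalizer
    ((commutator_mono hK.le (quo_mono _ hU)).trans der_le)
    (normalizer_commutator_ge_left _ _) with h3 | h3
  · exact absurd (coprime_of_le h3 h2) (hK.not_coprime_of_Oppof_eq_bot (Oppof_quo_self H))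
  · rw [commutator_comm]
    refine commutator_eq_bot_of_perfect hK.perfect ?_
    rwa [commutator_comm, commutator_comm (quo U _)]

omit [Finite G] in
theorem norm_sSup {S : Set (Subgroup G)} {X : Subgroup G}
    (h : ∀ K ∈ S, ∀ g ∈ X, K.map (MulAut.conj g).toMonoidHom ∈ S) : X ≤ 𝒩(sSup S) := by
  refine le_norm_iff.2 fun g hg x hx => ?_
  have : sSup S ≤ (sSup S).comap (MulAut.conj g).toMonoidHom :=
    sSup_le fun K hK => map_le_iff_le_comap.1 (le_sSup (h K hK g hg))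
  exact this hx

/-- A 2-component of `C_H(T)` lies in the product of the components centralised by `A₁` or in the
product of the components centralised by `A₂`. -/
theorem pcomp_le_of_separated {H T A₁ A₂ L : Subgroup G} (hO : Oppof 2 H = ⊥) (hT : IsPGroup 2 T)
    (hn : T ≤ 𝒩(H)) (h1 : T ≤ 𝒩(A₁)) (h2 : T ≤ 𝒩(A₂))
    (hs : ∀ K, Comp H K → K ≤ 𝒞(A₁) ∨ K ≤ 𝒞(A₂)) (hL : PComp 2 (H ⊓ 𝒞(T)) L) :
    L ≤ sSup {K | Comp H K ∧ K ≤ 𝒞(A₁)} ∨ L ≤ sSup {K | Comp H K ∧ K ≤ 𝒞(A₂)} := by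
  have hLE : L ≤ Eof H := Lof_eq_Eof_of_Oppof_eq_bot hO ▸ pcomp_inf_centralizer_le_Lof hT hn hL
  have key : ∀ A : Subgroup G, T ≤ 𝒩(A) → L ≤ sSup {K | Comp H K ∧ K ≤ 𝒞(A)} ∨
      ⁅L, sSup {K | Comp H K ∧ K ≤ 𝒞(A)}⁆ = ⊥ := fun A hA =>
    pcomp_le_or_commutator_eq_bot hn hL hLE (sSup_le fun K hK => hK.1.le_Eof)
      (norm_sSup fun K hK g hg => by
        rw [map_conj_eq_cj, cj_eq_of_mem_norm (hK.1.Eof_le_normalizer hg)]; exact hK)
      (norm_sSup fun K hK g hg => ⟨hK.1.conj (hn hg), cj_le_of_mem_norm hK.2 (norm_cent hA hg)⟩)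
  rcases key A₁ h1 with h3 | h3
  · exact Or.inl h3
  rcases key A₂ h2 with h4 | h4
  · exact Or.inr h4
  refine absurd ?_ hL.pqs.not_solvable
  have h5 : L ≤ 𝒞(L) := by
    refine hLE.trans (Eof_le_iff.2 fun K hK => ?_)
    rcases hs K hK with h | h
    · exact (le_sSup (show K ∈ {K | Comp H K ∧ K ≤ 𝒞(A₁)} from ⟨hK, h⟩)).trans
        (cent_symm (H49.commutator_eq_bot_iff.1 h3))
    · exact (le_sSup (show K ∈ {K | Comp H K ∧ K ≤ 𝒞(A₂)} from ⟨hK, h⟩)).trans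
        (cent_symm (H49.commutator_eq_bot_iff.1 h4))
  exact solvable_of_abelian (abelian_iff.2 h5)

/-- The same modulo the core. -/
theorem pcomp_comm_le_of_separated {H T A₁ A₂ L Z : Subgroup G} (hT : IsPGroup 2 T)
    (hn : T ≤ 𝒩(H)) (h1 : T ≤ 𝒩(A₁)) (h2 : T ≤ 𝒩(A₂)) (hA₁ : A₁ ≤ 𝒩(H)) (hA₂ : A₂ ≤ 𝒩(H))
    (hs : ∀ K, PComp 2 H K → ⁅K, A₁⁆ ≤ Oppof 2 H ∨ ⁅K, A₂⁆ ≤ Oppof 2 H)
    (hL : PComp 2 (H ⊓ 𝒞(T)) L) (hZ : Z ≤ 𝒩(H)) (hZK : ∀ K, PComp 2 H K → Z ≤ 𝒩(K)) :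
    ⁅L, ⁅Z, A₁⁆⁆ ≤ Oppof 2 H ∨ ⁅L, A₂⁆ ≤ Oppof 2 H := by
  have hH := le_normalizer_pPrimeCoreOf (p := 2) H
  have hN := normalizer_le_normalizer_pPrimeCoreOf (p := 2) H
  have hLH := (hL.le.trans inf_le_left).trans hH
  have hL' := pcomp_quo (inf_le_left.trans hH) (pPrimeCoreOf_coprime H) hL
  rw [quo_inf_cent hT hn (hn.trans hN) (pPrimeCoreOf_coprime H)] at hL'
  refine (pcomp_le_of_separated (Oppof_quo_self H) (isPGroup_quo hT _) (quo_norm _ hn)
    (quo_norm _ h1) (quo_norm _ h2) (fun K hK => ?_) hL').imp (fun h => ?_) fun h => ?_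
  · obtain ⟨K, hK', rfl⟩ := exists_comp_quo hK
    exact (hs K hK').imp (quo_cent_iff (hK'.le.trans hH) (hA₁.trans hN)).2
      (quo_cent_iff (hK'.le.trans hH) (hA₂.trans hN)).2
  · rw [← quo_cent_iff hLH ((commutator_mono (hZ.trans hN) (hA₁.trans hN)).trans der_le),
      quo_commutator (hZ.trans hN) (hA₁.trans hN)]
    refine h.trans (sSup_le fun K hK => cent_symm ?_)
    obtain ⟨K, hK', rfl⟩ := exists_comp_quo hK.1
    exact (commutator_mono le_rfl (cent_symm hK.2)).trans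
      (commutator_le_right_of_norm (norm_cent (quo_norm _ (hZK K hK'))))
  · rw [← quo_cent_iff hLH (hA₂.trans hN)]
    exact h.trans (sSup_le fun K hK => hK.2)

end Cfsg.Agent.H46
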