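import Cfsg.Agent.H44.FixComp
import Cfsg.Agent.H21.Basic

/-!
Ambient forms: the core of `C_H(P)` acting on the components of a core-free subgroup `H`
normalized by the `p`-group `P`.
-/

set_option autoImplicit false

namespace Cfsg.Agent.H46

open Subgroup Cfsg.Agent.H44
open scoped commutatorElement

universe u

variable {G : Type u} [Group G] {p : ℕ}

/-- A `p'`-subgroup of `H P` lies in `H` when the `p`-group `P` normalizes `H`. -/
theorem le_of_coprime_of_le_sup [Finite G] [Fact p.Prime] {H P Y : Subgroup G} (hP : IsPGroup p P)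
    (hn : P ≤ normalizer (H : Set G)) (hY : (Nat.card Y).Coprime p) (h : Y ≤ H ⊔ P) : Y ≤ H := by
  intro y hy
  have hN : (H.subgroupOf (H ⊔ P)).Normal :=
    (normal_subgroupOf_iff_le_normalizer le_sup_left).2 (sup_le le_normalizer hn)
  have h1 : y ^ H.relIndex (H ⊔ P) ∈ H := pow_index_mem (H.subgroupOf (H ⊔ P)) ⟨y, h hy⟩
  refine mem_of_pow_mem_of_coprime h1 ?_
  rw [H21.relIndex_sup_of_le_normalizer hn]
  obtain ⟨k, hk⟩ := hP.exists_card_eq
  exact ((coprime_orderOf_of_mem hY hy).pow_right k).coprime_dvd_right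
    (hk ▸ relIndex_dvd_card H P)

theorem Oppof_sup_eq [Finite G] [Fact p.Prime] {H P : Subgroup G} (hP : IsPGroup p P)
    (hn : P ≤ normalizer (H : Set G)) : Oppof p (H ⊔ P) = Oppof p H := by
  rw [Oppof_eq_inf_of_sn (SN.of_le_normalizer le_sup_left (sup_le le_normalizer hn)),
    inf_of_le_left (le_of_coprime_of_le_sup hP hn (pPrimeCoreOf_coprime _) (Oppof_le _))]

theorem comp_subgroupOf {X L : Subgroup G} (hL : Comp X L) : Comp ⊤ (L.subgroupOf X) :=
  comp_top_iff.2 (comp_iff.1 hL).2

theorem map_subtype_subgroupOf {X L : Subgroup G} (h : L ≤ X) :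
    (L.subgroupOf X).map X.subtype = L := by
  rw [subgroupOf_map_subtype, inf_of_le_left h]

theorem Oppof_inf_centralizer_le_map [Finite G] {H P X : Subgroup G} (hH : SN X H) (hP : P ≤ X) :
    Oppof p (H ⊓ centralizer (P : Set G)) ≤
      (Oppof p (centralizer (P.subgroupOf X : Set X))).map X.subtype := by
  rw [map_Oppof_inj _ X.subtype_injective, map_subtype_centralizer_subgroupOf hP]
  exact Oppof_le_Oppof_of_sn (hH.inf_right _)

theorem Oppof_inf_centralizer_le_normalizer [Finite G] [Fact p.Prime] {H P L : Subgroup G}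
    (hO : Oppof p H = ⊥) (hP : IsPGroup p P) (hn : P ≤ normalizer (H : Set G)) (hL : Comp H L) :
    Oppof p (H ⊓ centralizer (P : Set G)) ≤ normalizer (L : Set G) := by
  have hH : SN (H ⊔ P) H := SN.of_le_normalizer le_sup_left (sup_le le_normalizer hn)
  have hO' : pPrimeCore p ↥(H ⊔ P) = ⊥ := Oppof_eq_bot_iff.1 ((Oppof_sup_eq hP hn).trans hO)
  have h1 := Oppof_centralizer_le_normalizer_comp hO' (P := P.subgroupOf (H ⊔ P)) hP.comap_subtype
    (comp_subgroupOf (hL.of_sn hH))
  refine (Oppof_inf_centralizer_le_map hH le_sup_right).trans ((map_mono h1).trans ?_)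
  have := le_normalizer_map (H := L.subgroupOf (H ⊔ P)) (H ⊔ P).subtype
  rwa [map_subtype_subgroupOf (hL.le.trans le_sup_left)] at this

theorem commutator_Oppof_inf_centralizer_of_ne [Finite G] [Fact p.Prime] {H L : Subgroup G}
    (hO : Oppof p H = ⊥) {x : G} (hx : orderOf x = p) (hn : x ∈ normalizer (H : Set G))
    (hL : Comp H L) (hne : ⁅L, zpowers x⁆ ≠ L) :
    ⁅L, Oppof p (H ⊓ centralizer ({x} : Set G))⁆ = ⊥ := by
  have hP : IsPGroup p (zpowers x) := isPGroup_zpowers_of_orderOf hx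
  have hn' : zpowers x ≤ normalizer (H : Set G) := zpowers_le_of_mem hn
  set X := H ⊔ zpowers x with hX
  have hH : SN X H := SN.of_le_normalizer le_sup_left (sup_le le_normalizer hn')
  have hO' : pPrimeCore p X = ⊥ := Oppof_eq_bot_iff.1 ((Oppof_sup_eq hP hn').trans hO)
  have hxX : x ∈ X := mem_sup_right (mem_zpowers x)
  have hLX : L ≤ X := hL.le.trans le_sup_left
  have hz : (zpowers (⟨x, hxX⟩ : X)).map X.subtype = zpowers x := by
    rw [MonoidHom.map_zpowers]; rfl
  have h1 := commutator_Oppof_centralizer_of_ne hO' (comp_subgroupOf (hL.of_sn hH))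
    (x := ⟨x, hxX⟩) (by rw [← orderOf_coe]; exact hx) (fun h => hne (by
      have := congrArg (map X.subtype) h
      rwa [map_commutator, map_subtype_subgroupOf hLX, hz] at this))
  have h2 := congrArg (map X.subtype) h1
  rw [map_commutator, map_subtype_subgroupOf hLX, Subgroup.map_bot] at h2
  refine commutator_eq_bot_mono h2 le_rfl ?_
  have h3 := Oppof_inf_centralizer_le_map (p := p) hH (P := zpowers x) le_sup_right
  have h4 : (zpowers x).subgroupOf X = zpowers (⟨x, hxX⟩ : X) := by
    rw [← hz]; exact comap_map_eq_self_of_injective X.subtype_injective _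
  rwa [centralizer_zpowers_eq, h4, centralizer_zpowers_eq] at h3

theorem eq_bot_of_centralizes_comps' [Finite G] [Fact p.Prime] {H Y : Subgroup G}
    (hO : Oppof p H = ⊥) (hYH : Y ≤ H) (hY : (Nat.card Y).Coprime p)
    (h1 : ⁅Y, Opof p H⁆ = ⊥) (h2 : ∀ L : Subgroup G, Comp H L → ⁅L, Y⁆ = ⊥) : Y = ⊥ := by
  have h3 : Y ≤ H ⊓ centralizer (FSof H : Set G) := by
    rw [FSof_eq, H21.centralizer_sup, Fof_eq_Opof_of_Oppof_eq_bot hO]
    exact le_inf hYH (le_inf (commutator_eq_bot_iff_le_centralizer'.1 (commutator_Eof_eq_bot h2))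
      (commutator_eq_bot_iff_le_centralizer.1 h1))
  have h4 := h3.trans (inf_centralizer_FSof_le_Fof H)
  rw [Fof_eq_Opof_of_Oppof_eq_bot hO] at h4
  exact eq_bot_of_isPGroup_of_coprime ((pCoreOf_isPGroup H).to_le h4) hY

/-- An unbalancing component. -/
theorem exists_comp_unbalanced [Finite G] [Fact p.Prime] {H Y : Subgroup G}
    (hO : Oppof p H = ⊥) {x : G} (hx : orderOf x = p) (hn : x ∈ normalizer (H : Set G))
    (hY : Y ≤ Oppof p (H ⊓ centralizer ({x} : Set G))) (hY1 : Y ≠ ⊥) :
    ∃ L, Comp H L ∧ ⁅L, zpowers x⁆ = L ∧ Y ≤ normalizer (L : Set G) ∧ ⁅L, Y⁆ ≠ ⊥ := by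
  have hP : IsPGroup p (zpowers x) := isPGroup_zpowers_of_orderOf hx
  have hn' : zpowers x ≤ normalizer (H : Set G) := zpowers_le_of_mem hn
  by_contra hcon
  push Not at hcon
  refine hY1 (eq_bot_of_centralizes_comps' hO (hY.trans ((Oppof_le _).trans inf_le_left))
    (coprime_of_le hY (pPrimeCoreOf_coprime _)) ?_ fun L hL => ?_)
  · have := commutator_Oppof_centralizer_Opof hP hn'
    rw [centralizer_zpowers_eq] at this
    exact commutator_eq_bot_mono this hY le_rfl
  · by_cases h : ⁅L, zpowers x⁆ = L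
    · refine hcon L hL h (hY.trans ?_)
      have := Oppof_inf_centralizer_le_normalizer hO hP hn' hL
      rwa [centralizer_zpowers_eq] at this
    · exact commutator_eq_bot_mono (commutator_Oppof_inf_centralizer_of_ne hO hx hn hL h) le_rfl hY

end Cfsg.Agent.H46
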